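import Groth.Agent.Sga3.H782.StdEt
import Mathlib.RingTheory.Unramified.LocalStructure
import Mathlib.AlgebraicGeometry.Morphisms.Smooth
import Mathlib.AlgebraicGeometry.PullbackCarrier
import Mathlib.AlgebraicGeometry.Morphisms.QuasiCompact

/-!
# Local bounds for the number of irreducible components and the dimension of the fibres of a smooth
quasi-compact morphism
-/

set_option autoImplicit false
universe u
open CategoryTheory CategoryTheory.Limits AlgebraicGeometry
open scoped TensorProduct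
open Groth.Agent.Sga3.H782.StdEt

namespace Groth.Agent.Sga3.H782.LocBound

/-- Local charts of a smooth morphism with the two bounds. -/
theorem exists_chart {X S : Scheme.{u}} (f : X ⟶ S) [Smooth f] {W : S.Opens} (hW : IsAffineOpen W)
    (x : X) (hx : f.base x ∈ W) :
    ∃ (B : Type u) (_ : CommRing B) (_ : Algebra Γ(S, W) B) (j : Spec (CommRingCat.of B) ⟶ X),
      IsOpenImmersion j ∧ x ∈ Set.range j.base ∧
      j ≫ f = Spec.map (CommRingCat.ofHom (algebraMap Γ(S, W) B)) ≫ hW.fromSpec ∧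
      ∃ N d : ℕ, ∀ (K : Type u) [Field K] [Algebra Γ(S, W) K],
        Cov (PrimeSpectrum (B ⊗[Γ(S, W)] K)) N ∧
          topologicalKrullDim (PrimeSpectrum (B ⊗[Γ(S, W)] K)) ≤ d := by
  obtain ⟨V, hV, hxV, hVW'⟩ := exists_isAffineOpen_mem_and_subset (x := x) (U := f ⁻¹ᵁ W) hx
  have hVW : V ≤ f ⁻¹ᵁ W := hVW'
  have h1 : (f.appLE W V hVW).hom.Smooth := f.smooth_appLE hW hV hVW
  let A := Γ(S, W)
  let B₀ := Γ(X, V)
  let algAB₀ : Algebra A B₀ := (f.appLE W V hVW).hom.toAlgebra
  have h2 : Algebra.Smooth A B₀ := h1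
  let p := hV.primeIdealOf ⟨x, hxV⟩
  obtain ⟨f₀, hf₀, n, algP, hst, hP⟩ := Algebra.IsSmoothAt.exists_isStandardEtale_mvPolynomial
    (R := A) (S := B₀) (p := p.asIdeal)
  let j₀ : Spec (CommRingCat.of (Localization.Away f₀)) ⟶ Spec B₀ :=
    Spec.map (CommRingCat.ofHom (algebraMap B₀ (Localization.Away f₀)))
  have hj₀ : IsOpenImmersion j₀ := inferInstance
  let j : Spec (CommRingCat.of (Localization.Away f₀)) ⟶ X := j₀ ≫ hV.fromSpec
  obtain ⟨P⟩ := hP.nonempty_standardEtalePresentation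
  refine ⟨Localization.Away f₀, inferInstance, inferInstance, j, inferInstance, ?_, ?_,
    P.f.natDegree, n, ?_⟩
  · have h3 : p ∈ Set.range (PrimeSpectrum.comap (algebraMap B₀ (Localization.Away f₀))) := by
      rw [PrimeSpectrum.localization_away_comap_range (Localization.Away f₀) f₀]
      exact hf₀
    obtain ⟨w, hw⟩ := h3
    refine ⟨w, ?_⟩
    have h4 : hV.fromSpec.base p = x := hV.fromSpec_primeIdealOf ⟨x, hxV⟩
    rw [← h4, ← hw]
    rfl
  · have h5 : CommRingCat.ofHom (algebraMap A (Localization.Away f₀)) =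
        f.appLE W V hVW ≫ CommRingCat.ofHom (algebraMap B₀ (Localization.Away f₀)) := by
      ext a
      exact IsScalarTower.algebraMap_apply A B₀ (Localization.Away f₀) a
    have h6 := hW.SpecMap_appLE_fromSpec f hV hVW
    change (j₀ ≫ hV.fromSpec) ≫ f = Spec.map (CommRingCat.ofHom (algebraMap A (Localization.Away f₀))) ≫ _
    rw [h5, Spec.map_comp, Category.assoc, ← h6]
    exact (Category.assoc _ _ _).symm
  · intro K _ _
    exact cov_and_dim_of_baseChange (A := A) (B := Localization.Away f₀) (K := K) n P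

/-- The base change of a chart to a field-valued point. -/
theorem chart_baseChange {X S : Scheme.{u}} (f : X ⟶ S) {W : S.Opens} (hW : IsAffineOpen W)
    {B : Type u} [CommRing B] [Algebra Γ(S, W) B] (j : Spec (CommRingCat.of B) ⟶ X)
    [IsOpenImmersion j]
    (hj : j ≫ f = Spec.map (CommRingCat.ofHom (algebraMap Γ(S, W) B)) ≫ hW.fromSpec)
    (K : Type u) [Field K] [Algebra Γ(S, W) K] (y : Spec (CommRingCat.of K) ⟶ S)
    (hy : y = Spec.map (CommRingCat.ofHom (algebraMap Γ(S, W) K)) ≫ hW.fromSpec) :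
    ∃ c : Spec (CommRingCat.of (B ⊗[Γ(S, W)] K)) ⟶ pullback f y, IsOpenImmersion c ∧
      ∀ z : ↥(pullback f y), (pullback.fst f y).base z ∈ Set.range j.base → z ∈ Set.range c.base := by
  let A := Γ(S, W)
  let a : Spec (CommRingCat.of (B ⊗[A] K)) ⟶ Spec (CommRingCat.of B) :=
    Spec.map (CommRingCat.ofHom Algebra.TensorProduct.includeLeftRingHom)
  let b : Spec (CommRingCat.of (B ⊗[A] K)) ⟶ Spec (CommRingCat.of K) :=
    Spec.map (CommRingCat.ofHom (Algebra.TensorProduct.includeRight (R := A) (A := B) (B := K)).toRingHom)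
  have h1 : IsPullback a b (Spec.map (CommRingCat.ofHom (algebraMap A B)))
      (Spec.map (CommRingCat.ofHom (algebraMap A K))) :=
    isPullback_SpecMap_of_isPushout _ _ _ _ (CommRingCat.isPushout_tensorProduct A B K)
  have h2 : IsPullback a b (Spec.map (CommRingCat.ofHom (algebraMap A B)) ≫ hW.fromSpec)
      (Spec.map (CommRingCat.ofHom (algebraMap A K)) ≫ hW.fromSpec) :=
    ⟨⟨by rw [← Category.assoc, h1.w, Category.assoc]⟩,
      ⟨PullbackCone.isLimitOfCompMono _ _ hW.fromSpec _ h1.isLimit⟩⟩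
  rw [← hj, ← hy] at h2
  let c : Spec (CommRingCat.of (B ⊗[A] K)) ⟶ pullback f y :=
    pullback.lift (a ≫ j) b (by rw [Category.assoc]; exact h2.w)
  have h3 : IsPullback (pullback.snd f y) (pullback.fst f y) y f :=
    (IsPullback.of_hasPullback f y).flip
  have h4 : IsPullback c a (pullback.fst f y) j := by
    refine IsPullback.of_right ?_ (pullback.lift_fst _ _ _) h3
    rw [pullback.lift_snd]
    exact h2.flip
  refine ⟨c, MorphismProperty.of_isPullback (P := @IsOpenImmersion) h4.flip ‹_›, ?_⟩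
  rintro z ⟨w, hw⟩
  obtain ⟨v, hv, -⟩ := Scheme.exists_preimage_of_isPullback h4 z w hw.symm
  exact ⟨v, hv⟩

/-- The Krull dimension of a space covered by open embeddings. -/
theorem topologicalKrullDim_le_of_openEmbeddings {X : Type*} [TopologicalSpace X] {ι : Type*}
    {Y : ι → Type*} [∀ i, TopologicalSpace (Y i)] (f : ∀ i, Y i → X)
    (hf : ∀ i, Topology.IsOpenEmbedding (f i)) (hcov : ∀ x, ∃ i y, f i y = x) {d : WithBot ℕ∞}
    (hd : ∀ i, topologicalKrullDim (Y i) ≤ d) : topologicalKrullDim X ≤ d := by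
  rw [topologicalKrullDim, Order.krullDim_eq_iSup_coheight]
  refine iSup_le fun Z => ?_
  obtain ⟨x, hx⟩ := Z.isIrreducible.nonempty
  obtain ⟨i, y, rfl⟩ := hcov x
  let e := TopologicalSpace.IrreducibleCloseds.orderIsoOfIsOpenEmbedding (f i) (hf i)
  let Z' : TopologicalSpace.IrreducibleCloseds (Y i) := e.symm ⟨Z, ⟨y, hx⟩⟩
  have h1 : TopologicalSpace.IrreducibleCloseds.map (f i) (hf i).continuous Z' = Z := by
    have := e.apply_symm_apply ⟨Z, ⟨y, hx⟩⟩
    exact congrArg Subtype.val this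
  rw [← h1, (hf i).coheight_map]
  exact (Order.coheight_le_krullDim Z').trans (hd i)

/-- A chart of a smooth morphism with bounds. -/
structure Chart {X S : Scheme.{u}} (f : X ⟶ S) {W : S.Opens} (hW : IsAffineOpen W) where
  B : Type u
  [cB : CommRing B]
  [aB : Algebra Γ(S, W) B]
  j : Spec (CommRingCat.of B) ⟶ X
  hj : IsOpenImmersion j
  hjf : j ≫ f = Spec.map (CommRingCat.ofHom (algebraMap Γ(S, W) B)) ≫ hW.fromSpec
  N : ℕ
  d : ℕ
  bound : ∀ (K : Type u) [Field K] [Algebra Γ(S, W) K],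
    Cov (PrimeSpectrum (B ⊗[Γ(S, W)] K)) N ∧
      topologicalKrullDim (PrimeSpectrum (B ⊗[Γ(S, W)] K)) ≤ d

attribute [instance] Chart.cB Chart.aB Chart.hj

/-- **Local bounds.** For `f` smooth and quasi-compact, every point of the base has a neighbourhood over
which the number of components and the dimension of the fibres at field-valued points are bounded. -/
theorem exists_bound {X S : Scheme.{u}} (f : X ⟶ S) [Smooth f] [QuasiCompact f] (s : S) :
    ∃ U : S.Opens, s ∈ U ∧ ∃ N d : ℕ, ∀ (K : Type u) [Field K] (y : Spec (CommRingCat.of K) ⟶ S),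
      Set.range y.base ⊆ U → Cov ↥(pullback f y) N ∧ topologicalKrullDim ↥(pullback f y) ≤ d := by
  obtain ⟨W, hW, hsW, -⟩ := exists_isAffineOpen_mem_and_subset (x := s) (U := ⊤) trivial
  refine ⟨W, hsW, ?_⟩
  have hcomp : IsCompact ((f ⁻¹ᵁ W : X.Opens) : Set X) := f.isCompact_preimage hW.isCompact
  have hex : ∀ x : {x : X // f.base x ∈ W}, ∃ c : Chart f hW, x.1 ∈ Set.range c.j.base := by
    intro x
    obtain ⟨B, cB, aB, j, hj, hxj, hjf, N, d, hb⟩ := exists_chart f hW x.1 x.2
    exact ⟨⟨B, j, hj, hjf, N, d, hb⟩, hxj⟩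
  choose c hc using hex
  obtain ⟨t, ht⟩ := hcomp.elim_finite_subcover (fun x => Set.range (c x).j.base)
    (fun x => (c x).j.isOpenEmbedding.isOpen_range) (fun x hx => Set.mem_iUnion.mpr ⟨⟨x, hx⟩, hc _⟩)
  refine ⟨∑ i : t, (c i).N, t.sup fun i => (c i).d, fun K _ y hy => ?_⟩
  have hrange : Set.range y.base ⊆ Set.range hW.fromSpec.base := by
    rw [hW.range_fromSpec]; exact hy
  let y₀ := IsOpenImmersion.lift hW.fromSpec y hrange
  have hy₀ : y₀ ≫ hW.fromSpec = y := IsOpenImmersion.lift_fac _ _ _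
  let ψ : Γ(S, W) ⟶ CommRingCat.of K := Spec.preimage y₀
  let algK : Algebra Γ(S, W) K := ψ.hom.toAlgebra
  have hψ : y = Spec.map (CommRingCat.ofHom (algebraMap Γ(S, W) K)) ≫ hW.fromSpec := by
    have : CommRingCat.ofHom (algebraMap Γ(S, W) K) = ψ := rfl
    rw [this, Spec.map_preimage, hy₀]
  choose b hb hbr using fun i : t => chart_baseChange f hW (c i).j (c i).hjf K y hψ
  have hcov : ∀ z : ↥(pullback f y), ∃ (i : t) (w : _), (b i).base w = z := by
    intro z
    have h1 : f.base ((pullback.fst f y).base z) ∈ W := by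
      have h2 : f.base ((pullback.fst f y).base z) = y.base ((pullback.snd f y).base z) := by
        rw [← Scheme.Hom.comp_apply, ← Scheme.Hom.comp_apply, pullback.condition]
      rw [h2]
      exact hy ⟨_, rfl⟩
    obtain ⟨i, hi, hz⟩ := Set.mem_iUnion₂.mp (ht h1)
    obtain ⟨w, hw⟩ := hbr ⟨i, hi⟩ z hz
    exact ⟨⟨i, hi⟩, w, hw⟩
  refine ⟨Cov.of_maps (fun i : t => ((c i).bound K).1) (fun i => (b i).base)
    (fun i => (b i).continuous) hcov, ?_⟩
  refine topologicalKrullDim_le_of_openEmbeddings (fun i : t => (b i).base)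
    (fun i => (b i).isOpenEmbedding) hcov fun i => ((c i).bound K).2.trans ?_
  exact_mod_cast Finset.le_sup (f := fun i => (c i).d) i.2

end Groth.Agent.Sga3.H782.LocBound
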