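import Groth.Agent.Sga3.H782.Points
import Groth.Agent.Sga3.H782.LocBound
import Groth.Prelude.Def_Red2
import Mathlib.AlgebraicGeometry.Morphisms.UniversallyOpen
import Mathlib.AlgebraicGeometry.Morphisms.Separated

/-!
# The locus where the geometric fibres of a smooth separated quasi-compact group are solvable is closed
-/

set_option autoImplicit false
universe u
open CategoryTheory MonoidalCategory CartesianMonoidalCategory MonObj GrpObj AlgebraicGeometry
open CategoryTheory.Limits

namespace Groth.Agent.Sga3.H782.Closed

variable {S : Scheme.{u}} (G : Over S) [GrpObj G]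

/-- The points over which the derived length is at most `n`. -/
def Zn (n : ℕ) : Set S :=
  {s : S | ∀ X : Over (Spec (CommRingCat.of (AlgebraicClosure (S.residueField s)))),
    derivedSeries (X ⟶ Red.geomFibre s G) n = ⊥}

theorem range_geomPt (s : S) : Set.range (Red.geomPt s).base = {s} := by
  ext x
  simp only [Set.mem_range, Set.mem_singleton_iff]
  have h : ∀ p, (Red.geomPt s).base p = s := fun p => Scheme.fromSpecResidueField_apply s _
  constructor
  · rintro ⟨p, rfl⟩
    exact h p
  · rintro rfl
    exact ⟨IsLocalRing.closedPoint _, h _⟩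

variable [Smooth G.hom] [IsSeparated G.hom]

omit [GrpObj G] [IsSeparated G.hom] in
theorem smooth_P (n : ℕ) : Smooth (WordMor.P G n).hom := by
  induction n with
  | zero => assumption
  | succ n ih =>
    change Smooth (WordMor.P G n ⊗ WordMor.P G n).hom
    rw [Over.tensorObj_hom]
    infer_instance

theorem isClosed_Zn (n : ℕ) : IsClosed (Zn G n) := by
  let P := WordMor.P G n
  let δ : P ⟶ G := WordMor.delta G n
  have hP : Smooth P.hom := smooth_P G n
  let k : (equalizer δ 1).left ⟶ P.left := (equalizer.ι δ 1).left
  have hk : IsClosedImmersion k := inferInstance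
  let W : Set P.left := Set.range k.base
  have hW : IsClosed W := k.isClosedEmbedding.isClosed_range
  have hkδ : k ≫ δ.left = k ≫ (1 : P ⟶ G).left := by
    have := equalizer.condition δ (1 : P ⟶ G)
    exact congrArg (fun f => f.left) this
  have key : Zn G n = (P.hom.base '' Wᶜ)ᶜ := by
    ext s
    change (∀ X : Over (Spec (CommRingCat.of (AlgebraicClosure (S.residueField s)))),
      derivedSeries (X ⟶ Red.geomFibre s G) n = ⊥) ↔ _
    rw [WordMor.forall_derivedSeries_bc_iff]
    set c := (Over.mapPullbackAdj (Red.geomPt s)).counit.app P with hc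
    have hcl : c.left = pullback.fst P.hom (Red.geomPt s) := by
      simp [hc, P]
    have hcr : Set.range c.left.base = P.hom.base ⁻¹' {s} := by
      rw [hcl, ← range_geomPt s]
      exact Scheme.Pullback.range_fst _ _
    constructor
    · rintro h ⟨x, hxW, hxs⟩
      have h1 : c ≫ δ = c ≫ (1 : P ⟶ G) := by
        rw [MonObj.comp_one]; exact h
      have h2 : c.left = (equalizer.lift c h1).left ≫ k := by
        change c.left = ((equalizer.lift c h1) ≫ equalizer.ι δ 1).left
        rw [equalizer.lift_ι]
      have h3 : x ∈ Set.range c.left.base := by rw [hcr]; exact hxs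
      obtain ⟨z, rfl⟩ := h3
      apply hxW
      rw [h2]
      exact ⟨_, rfl⟩
    · intro h
      have hsub : P.hom.base ⁻¹' {s} ⊆ W := by
        intro x hx
        by_contra hxW
        exact h ⟨x, hxW, hx⟩
      rw [← MonObj.comp_one c]
      ext1
      have hred : IsReduced ((Over.pullback (Red.geomPt s) ⋙ Over.map (Red.geomPt s)).obj P).left := by
        have : Smooth (pullback.snd P.hom (Red.geomPt s)) := inferInstance
        exact Etcore.SmoothRed.isReduced_of_smooth (pullback.snd P.hom (Red.geomPt s))
      have hsurj : Surjective (pullback.snd k c.left) := by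
        refine ⟨fun z => ?_⟩
        have h1 : c.left.base z ∈ W := hsub (by rw [← hcr]; exact ⟨z, rfl⟩)
        have h2 := Scheme.Pullback.range_snd k c.left
        have h3 : z ∈ c.left.base ⁻¹' Set.range k.base := h1
        rw [← h2] at h3
        exact h3
      refine ext_of_isDominant_of_isSeparated G.hom (by rw [Over.w, Over.w])
        (pullback.snd k c.left) ?_
      rw [Over.comp_left, Over.comp_left, ← Category.assoc, ← Category.assoc, ← pullback.condition,
        Category.assoc, Category.assoc]
      exact congrArg _ hkδ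
  rw [key]
  exact (P.hom.isOpenMap _ hW.isOpen_compl).isClosed_compl

/-- Locally on the base the derived length of the solvable geometric fibres is bounded. -/
theorem exists_bound [QuasiCompact G.hom] (s : S) :
    ∃ U : S.Opens, s ∈ U ∧ ∃ M : ℕ, ∀ t ∈ U, Red.IsSolvableGrp (Red.geomFibre t G) → t ∈ Zn G M := by
  obtain ⟨U, hsU, N, d, hb⟩ := LocBound.exists_bound G.hom s
  refine ⟨U, hsU, N + d, fun t ht hsol X => ?_⟩
  obtain ⟨m, hm⟩ := hsol
  obtain ⟨⟨Z, hZ, hcov⟩, hd⟩ := hb (AlgebraicClosure (S.residueField t)) (Red.geomPt t)
    (by rw [range_geomPt]; exact Set.singleton_subset_iff.mpr ht)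
  have h1 : Smooth (Red.geomFibre t G).hom := by
    change Smooth (pullback.snd G.hom (Red.geomPt t))
    infer_instance
  have h2 : IsSeparated (Red.geomFibre t G).hom := by
    change IsSeparated (pullback.snd G.hom (Red.geomPt t))
    infer_instance
  have h3 : QuasiCompact (Red.geomFibre t G).hom := by
    change QuasiCompact (pullback.snd G.hom (Red.geomPt t))
    infer_instance
  have h4 := Points.derivedSeries_pts_eq_bot (H := Red.geomFibre t G) Z hZ hcov hd (hm _)
  exact Points.forall_derivedSeries_eq_bot h4 X

theorem isClosed_solvable [QuasiCompact G.hom] :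
    IsClosed {s : S | Red.IsSolvableGrp (Red.geomFibre s G)} := by
  rw [← isOpen_compl_iff, isOpen_iff_mem_nhds]
  intro s hs
  obtain ⟨U, hsU, M, hM⟩ := exists_bound G s
  have hs' : s ∉ Zn G M := fun h => hs ⟨M, h⟩
  refine Filter.mem_of_superset ((U.isOpen.inter (isClosed_Zn G M).isOpen_compl).mem_nhds
    ⟨hsU, hs'⟩) ?_
  rintro t ⟨htU, htM⟩ ht
  exact htM (hM t htU ht)

end Groth.Agent.Sga3.H782.Closed
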