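import Groth.Agent.Sga3.H782.Word
import Groth.Agent.Sga3B.BcPts

/-!
# The iterated commutator word as a morphism of schemes
-/

set_option autoImplicit false
universe u v w
open CategoryTheory MonoidalCategory CartesianMonoidalCategory MonObj GrpObj AlgebraicGeometry
open scoped commutatorElement

namespace Groth.Agent.Sga3.H782.WordMor

section Cat

variable {C : Type u} [Category.{v} C] [CartesianMonoidalCategory C] (G : C) [GrpObj G]

/-- The iterated self-product on which the n-th derived word lives. -/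
def P (G : C) : ℕ → C
  | 0 => G
  | n + 1 => P G n ⊗ P G n

/-- First half of the variables. -/
def p₁ (G : C) (n : ℕ) : P G (n + 1) ⟶ P G n := fst (P G n) (P G n)

/-- Second half of the variables. -/
def p₂ (G : C) (n : ℕ) : P G (n + 1) ⟶ P G n := snd (P G n) (P G n)

/-- Pairing. -/
def pair {X G : C} {n : ℕ} (x y : X ⟶ P G n) : X ⟶ P G (n + 1) := lift x y

lemma pair_p₁ {X G : C} {n : ℕ} (x y : X ⟶ P G n) : pair x y ≫ p₁ G n = x := lift_fst x y

lemma pair_p₂ {X G : C} {n : ℕ} (x y : X ⟶ P G n) : pair x y ≫ p₂ G n = y := lift_snd x y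

/-- The n-th derived word as a morphism. -/
def delta : (n : ℕ) → (P G n ⟶ G)
  | 0 => 𝟙 G
  | n + 1 => ⁅p₁ G n ≫ delta n, p₂ G n ≫ delta n⁆

variable {G}

lemma comp_commutator {X Y : C} (x : X ⟶ Y) (f g : Y ⟶ G) : x ≫ ⁅f, g⁆ = ⁅x ≫ f, x ≫ g⁆ := by
  simp only [commutatorElement_def, MonObj.comp_mul, GrpObj.comp_inv]

lemma delta_succ (n : ℕ) : delta G (n + 1) = ⁅p₁ G n ≫ delta G n, p₂ G n ≫ delta G n⁆ := rfl

lemma mem_vals_iff {X : C} (n : ℕ) (g : X ⟶ G) :
    g ∈ Word.vals (X ⟶ G) n ↔ ∃ x : X ⟶ P G n, x ≫ delta G n = g := by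
  induction n generalizing g with
  | zero => exact ⟨fun _ => ⟨g, Category.comp_id _⟩, fun _ => trivial⟩
  | succ n ih =>
    constructor
    · rintro ⟨a, ha, b, hb, rfl⟩
      obtain ⟨x, rfl⟩ := (ih a).mp ha
      obtain ⟨y, rfl⟩ := (ih b).mp hb
      refine ⟨pair x y, ?_⟩
      rw [delta_succ, comp_commutator, ← Category.assoc, ← Category.assoc, pair_p₁, pair_p₂]
    · rintro ⟨x, rfl⟩
      refine ⟨(x ≫ p₁ G n) ≫ delta G n, (ih _).mpr ⟨_, rfl⟩,
        (x ≫ p₂ G n) ≫ delta G n, (ih _).mpr ⟨_, rfl⟩, ?_⟩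
      rw [delta_succ, comp_commutator, Category.assoc, Category.assoc]

lemma derivedSeries_eq_bot_iff {X : C} (n : ℕ) :
    derivedSeries (X ⟶ G) n = ⊥ ↔ ∀ x : X ⟶ P G n, x ≫ delta G n = 1 := by
  rw [Word.derivedSeries_eq_bot_iff_vals]
  constructor
  · intro h x
    exact h _ ((mem_vals_iff n _).mpr ⟨x, rfl⟩)
  · intro h g hg
    obtain ⟨x, rfl⟩ := (mem_vals_iff n g).mp hg
    exact h x

end Cat

section BaseChange

variable {S S' : Scheme.{u}} (f : S' ⟶ S) (G : Over S) [GrpObj G]

lemma derivedSeries_mulEquiv {A B : Type*} [Group A] [Group B] (e : A ≃* B) (n : ℕ) :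
    derivedSeries A n = ⊥ ↔ derivedSeries B n = ⊥ := by
  rw [← map_derivedSeries_eq (f := e.toMonoidHom) e.surjective n, Subgroup.map_eq_bot_iff]
  constructor
  · intro h; rw [h]; exact bot_le
  · intro h
    rw [eq_bot_iff]
    refine h.trans ?_
    rw [(MonoidHom.ker_eq_bot_iff _).mpr e.injective]

/-- The n-th derived subgroups of all the groups of points of the base change vanish exactly when the
n-th derived word vanishes on the base change. -/
lemma forall_derivedSeries_bc_iff (n : ℕ) :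
    (∀ X : Over S', derivedSeries (X ⟶ Red.bc f G) n = ⊥) ↔
      (Over.mapPullbackAdj f).counit.app (P G n) ≫ delta G n = 1 := by
  constructor
  · intro h
    have h1 := (derivedSeries_mulEquiv
      (Sga3B.BcPts.bcMulEquiv f (Red.bc f (P G n)) G) n).mpr (h (Red.bc f (P G n)))
    exact (derivedSeries_eq_bot_iff n).mp h1 _
  · intro h X
    rw [← derivedSeries_mulEquiv (Sga3B.BcPts.bcMulEquiv f X G) n, derivedSeries_eq_bot_iff]
    intro x
    have h1 : x = (Over.map f).map ((Over.mapPullbackAdj f).homEquiv X (P G n) x) ≫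
        (Over.mapPullbackAdj f).counit.app (P G n) := by
      have := (Over.mapPullbackAdj f).homEquiv_counit X (P G n)
        ((Over.mapPullbackAdj f).homEquiv X (P G n) x)
      rw [Equiv.symm_apply_apply] at this
      exact this
    rw [h1, Category.assoc, h, MonObj.comp_one]

end BaseChange

end Groth.Agent.Sga3.H782.WordMor
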