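import Groth.Agent.Sga3.H782.TopGrp
import Groth.Agent.Sga3.H782.WordMor
import Groth.Agent.Etcore.SmoothRed
import Mathlib.AlgebraicGeometry.AlgClosed.Basic
import Mathlib.AlgebraicGeometry.Noetherian

/-!
# Rational points of group schemes locally of finite type over an algebraically closed field
-/

set_option autoImplicit false
universe u
open CategoryTheory MonoidalCategory CartesianMonoidalCategory MonObj GrpObj AlgebraicGeometry
open TopologicalSpace Topology
open scoped commutatorElement

namespace Groth.Agent.Sga3.H782.Points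

variable {K : Type u} [Field K] (H : Over (Spec (CommRingCat.of K)))

/-- The K-points. -/
abbrev Pts : Type u := 𝟙_ (Over (Spec (CommRingCat.of K))) ⟶ H

variable {H}

/-- The point of the underlying space below a K-point. -/
noncomputable def ev (g : Pts H) : H.left := g.left.base (IsLocalRing.closedPoint K)

/-- The Zariski topology on K-points. -/
noncomputable abbrev top : TopologicalSpace (Pts H) := TopologicalSpace.induced ev inferInstance

attribute [local instance] top

theorem isInducing_ev : IsInducing (ev : Pts H → H.left) := ⟨rfl⟩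

theorem ev_comp {H' : Over (Spec (CommRingCat.of K))} (g : Pts H) (φ : H ⟶ H') :
    ev (g ≫ φ) = φ.left.base (ev g) := by
  simp only [ev, Over.comp_left, Scheme.Hom.comp_base]
  rfl

theorem continuous_comp {H' : Over (Spec (CommRingCat.of K))} (φ : H ⟶ H') :
    Continuous (fun g : Pts H => (g ≫ φ : Pts H')) := by
  rw [isInducing_ev.continuous_iff]
  have : (ev ∘ fun g : Pts H => (g ≫ φ : Pts H')) = fun g => φ.left.base (ev g) := by
    funext g; exact ev_comp g φ
  rw [this]
  exact φ.left.continuous.comp isInducing_ev.continuous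

variable [IsAlgClosed K]

section
variable [LocallyOfFiniteType H.hom]

theorem ev_injective : Function.Injective (ev : Pts H → H.left) := by
  intro g g' h
  ext1
  exact ext_of_apply_closedPoint_eq H.hom (Over.w g) (Over.w g') h

theorem range_ev : Set.range (ev : Pts H → H.left) = closedPoints H.left := by
  ext x
  constructor
  · rintro ⟨g, rfl⟩
    exact (pointEquivClosedPoint H.hom ⟨g.left, Over.w g⟩).2
  · intro hx
    refine ⟨Over.homMk (pointOfClosedPoint H.hom x hx) (pointOfClosedPoint_comp _ _ _), ?_⟩
    exact pointOfClosedPoint_apply H.hom x hx _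

theorem t1Space : T1Space (Pts H) := by
  refine ⟨fun g => ?_⟩
  have h1 : ({g} : Set (Pts H)) = ev ⁻¹' {ev g} := by
    ext g'
    simp only [Set.mem_singleton_iff, Set.mem_preimage]
    exact ⟨fun h => by rw [h], fun h => ev_injective h⟩
  have h2 : ev g ∈ closedPoints H.left := by rw [← range_ev]; exact ⟨g, rfl⟩
  rw [h1]
  exact IsClosed.preimage isInducing_ev.continuous h2

/-- The points in a preirreducible set form a preirreducible set, after passing to the closure. -/
theorem isPreirreducible_preimage {Z : Set H.left} (hZ : IsPreirreducible Z) (hZc : IsClosed Z) :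
    IsPreirreducible (ev ⁻¹' Z : Set (Pts H)) := by
  have : JacobsonSpace H.left := LocallyOfFiniteType.jacobsonSpace H.hom
  have h1 : IsPreirreducible (Z ∩ closedPoints H.left) := by
    rw [← isPreirreducible_iff_closure,
      JacobsonSpace.closure_inter_closedPoints_eq_closure hZc.isLocallyClosed, hZc.closure_eq]
    exact hZ
  rintro U V hU hV ⟨x, hxZ, hxU⟩ ⟨y, hyZ, hyV⟩
  obtain ⟨U', hU', rfl⟩ := isInducing_ev.isOpen_iff.mp hU
  obtain ⟨V', hV', rfl⟩ := isInducing_ev.isOpen_iff.mp hV
  have hx : ev x ∈ closedPoints H.left := by rw [← range_ev]; exact ⟨x, rfl⟩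
  have hy : ev y ∈ closedPoints H.left := by rw [← range_ev]; exact ⟨y, rfl⟩
  obtain ⟨z, ⟨hzZ, hzc⟩, hzU, hzV⟩ := h1 U' V' hU' hV' ⟨ev x, ⟨hxZ, hx⟩, hxU⟩ ⟨ev y, ⟨hyZ, hy⟩, hyV⟩
  rw [← range_ev] at hzc
  obtain ⟨w, rfl⟩ := hzc
  exact ⟨w, hzZ, hzU, hzV⟩

omit [IsAlgClosed K] in
theorem noetherianSpace [QuasiCompact H.hom] : NoetherianSpace (Pts H) := by
  have h1 : IsLocallyNoetherian H.left := LocallyOfFiniteType.isLocallyNoetherian H.hom
  have h2 : CompactSpace H.left := QuasiCompact.compactSpace_of_compactSpace H.hom
  have h3 : IsNoetherian H.left := ⟨⟩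
  have h4 : NoetherianSpace H.left := inferInstance
  exact isInducing_ev.noetherianSpace

end

section
variable [GrpObj H]

omit [IsAlgClosed K] in
theorem zarCont : TopGrp.ZarCont (Pts H) where
  left a := by
    have : (fun b : Pts H => a * b) = fun b => b ≫ ((toUnit H ≫ a) * 𝟙 H) := by
      funext b
      rw [MonObj.comp_mul, Category.comp_id, ← Category.assoc]
      congr 1
      exact (Category.id_comp a).symm.trans (by congr 1; exact toUnit_unique _ _)
    rw [this]
    exact continuous_comp _
  right a := by
    have : (fun b : Pts H => b * a) = fun b => b ≫ (𝟙 H * (toUnit H ≫ a)) := by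
      funext b
      rw [MonObj.comp_mul, Category.comp_id, ← Category.assoc]
      congr 1
      exact (Category.id_comp a).symm.trans (by congr 1; exact toUnit_unique _ _)
    rw [this]
    exact continuous_comp _
  inv := by
    have : (fun b : Pts H => b⁻¹) = fun b => b ≫ (𝟙 H)⁻¹ := by
      funext b
      rw [GrpObj.comp_inv, Category.comp_id]
    rw [this]
    exact continuous_comp _
  comm a := by
    have : (fun b : Pts H => ⁅a, b⁆) = fun b => b ≫ ⁅toUnit H ≫ a, 𝟙 H⁆ := by
      funext b
      rw [WordMor.comp_commutator, Category.comp_id, ← Category.assoc]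
      congr 1
      exact (Category.id_comp a).symm.trans (by congr 1; exact toUnit_unique _ _)
    rw [this]
    exact continuous_comp _

/-- Bound on the derived length of the group of rational points. -/
theorem derivedSeries_pts_eq_bot [LocallyOfFiniteType H.hom] [QuasiCompact H.hom] {N d m : ℕ}
    (Z : Fin N → Set H.left) (hZ : ∀ i, IsPreirreducible (Z i)) (hcov : ∀ x, ∃ i, x ∈ Z i)
    (hd : topologicalKrullDim H.left ≤ d) (hm : derivedSeries (Pts H) m = ⊥) :
    derivedSeries (Pts H) (N + d) = ⊥ := by
  have := t1Space (H := H)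
  have := noetherianSpace (H := H)
  refine zarCont.derivedSeries_eq_bot_of_cover (fun i => ev ⁻¹' (closure (Z i)))
    (fun i => (isPreirreducible_preimage (hZ i).closure isClosed_closure).isPreconnected)
    (fun x => ?_) (isInducing_ev.topologicalKrullDim_le.trans hd) hm
  obtain ⟨i, hi⟩ := hcov (ev x)
  exact ⟨i, subset_closure hi⟩

omit [IsAlgClosed K] [GrpObj H] in
theorem smooth_P [Smooth H.hom] (n : ℕ) : Smooth (WordMor.P H n).hom := by
  induction n with
  | zero => assumption
  | succ n ih =>
    change Smooth (WordMor.P H n ⊗ WordMor.P H n).hom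
    rw [Over.tensorObj_hom]
    infer_instance

/-- For smooth separated `H`, the derived series of all groups of points vanish at stage `n` as soon
as that of the group of rational points does. -/
theorem forall_derivedSeries_eq_bot [Smooth H.hom] [IsSeparated H.hom] {n : ℕ}
    (hn : derivedSeries (Pts H) n = ⊥) (X : Over (Spec (CommRingCat.of K))) :
    derivedSeries (X ⟶ H) n = ⊥ := by
  have hs : Smooth (WordMor.P H n).hom := smooth_P n
  have hr : IsReduced (WordMor.P H n).left :=
    Etcore.SmoothRed.isReduced_of_smooth (WordMor.P H n).hom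
  have key : WordMor.delta H n = 1 := by
    ext1
    have hl : LocallyOfFiniteType ((WordMor.delta H n).left ≫ H.hom) := by
      rw [Over.w]; infer_instance
    refine ext_of_apply_eq H.hom Set.univ isClosed_univ.isLocallyClosed dense_univ ?_
      (by rw [Over.w, Over.w])
    intro x _ hx
    have hx' : x ∈ Set.range (ev : Pts (WordMor.P H n) → (WordMor.P H n).left) := by
      rw [range_ev]; exact hx
    obtain ⟨p, rfl⟩ := hx'
    have h1 := (WordMor.derivedSeries_eq_bot_iff n).mp hn p
    have h2 := ev_comp p (WordMor.delta H n)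
    have h3 := ev_comp p (1 : WordMor.P H n ⟶ H)
    rw [h1] at h2
    rw [MonObj.comp_one] at h3
    exact h2.symm.trans h3
  rw [WordMor.derivedSeries_eq_bot_iff]
  intro x
  rw [key, MonObj.comp_one]

end

end Groth.Agent.Sga3.H782.Points
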