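import Mathlib.RingTheory.Etale.StandardEtale
import Mathlib.RingTheory.Etale.QuasiFinite
import Mathlib.RingTheory.Ideal.GoingDown
import Mathlib.RingTheory.Flat.Basic
import Mathlib.RingTheory.AdjoinRoot
import Mathlib.FieldTheory.IsAlgClosed.AlgebraicClosure
import Mathlib.RingTheory.Spectrum.Prime.Topology
import Groth.Agent.FlatA.DimFin

/-!
# The number of irreducible components of a standard étale algebra over a domain is bounded by the degree
-/

set_option autoImplicit false
open Polynomial

namespace Groth.Agent.Sga3.H782.StdEt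

/-- `X` is covered by `N` preirreducible subsets. -/
def Cov (X : Type*) [TopologicalSpace X] (N : ℕ) : Prop :=
  ∃ Z : Fin N → Set X, (∀ i, IsPreirreducible (Z i)) ∧ ∀ x, ∃ i, x ∈ Z i

theorem cov_of_fintype {X : Type*} [TopologicalSpace X] {ι : Type*} [Fintype ι] {N : ℕ}
    (hN : Fintype.card ι ≤ N) (Z : ι → Set X) (hZ : ∀ i, IsPreirreducible (Z i))
    (hcov : ∀ x, ∃ i, x ∈ Z i) : Cov X N := by
  classical
  obtain ⟨e⟩ := Function.Embedding.nonempty_of_card_le (α := ι) (β := Fin N) (by simpa using hN)
  refine ⟨fun j => if h : ∃ i, e i = j then Z h.choose else ∅, fun j => ?_, fun x => ?_⟩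
  · dsimp only
    split_ifs with h
    · exact hZ _
    · exact isPreirreducible_empty
  · obtain ⟨i, hi⟩ := hcov x
    refine ⟨e i, ?_⟩
    have h : ∃ i', e i' = e i := ⟨i, rfl⟩
    dsimp only
    rw [dif_pos h]
    have : h.choose = i := e.injective h.choose_spec
    rwa [this]

theorem Cov.mono {X : Type*} [TopologicalSpace X] {N M : ℕ} (h : Cov X N) (hNM : N ≤ M) :
    Cov X M := by
  obtain ⟨Z, hZ, hc⟩ := h
  exact cov_of_fintype (by simpa using hNM) Z hZ hc

theorem Cov.of_isOpenEmbedding {X Y : Type*} [TopologicalSpace X] [TopologicalSpace Y] {N : ℕ}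
    (h : Cov Y N) {f : X → Y} (hf : Topology.IsOpenEmbedding f) : Cov X N := by
  obtain ⟨Z, hZ, hc⟩ := h
  exact ⟨fun i => f ⁻¹' Z i, fun i => (hZ i).preimage hf, fun x => hc (f x)⟩

/-- A space covered by images of finitely many spaces with bounded covers. -/
theorem Cov.of_maps {X : Type*} [TopologicalSpace X] {ι : Type*} [Fintype ι] {Y : ι → Type*}
    [∀ i, TopologicalSpace (Y i)] {N : ι → ℕ} (h : ∀ i, Cov (Y i) (N i)) (f : ∀ i, Y i → X)
    (hf : ∀ i, Continuous (f i)) (hcov : ∀ x, ∃ i y, f i y = x) : Cov X (∑ i, N i) := by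
  choose Z hZ hc using h
  refine cov_of_fintype (ι := Σ i, Fin (N i)) (by simp) (fun p => f p.1 '' Z p.1 p.2)
    (fun p => (hZ p.1 p.2).image _ (hf p.1).continuousOn) fun x => ?_
  obtain ⟨i, y, rfl⟩ := hcov x
  obtain ⟨j, hj⟩ := hc i y
  exact ⟨⟨i, j⟩, y, hj, rfl⟩

universe u

variable {R : Type u} [CommRing R] [IsDomain R]

/-- The spectrum of `R[X]/(f)` with `R` a domain and `f` monic is covered by `deg f` irreducible
subsets. -/
theorem cov_adjoinRoot (f : R[X]) (hf : f.Monic) :
    Cov (PrimeSpectrum (AdjoinRoot f)) f.natDegree := by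
  classical
  let F := FractionRing R
  let Ω := AlgebraicClosure F
  let D := AdjoinRoot f
  have hfin : Module.Finite R D := hf.finite_adjoinRoot
  have hfree : Module.Free R D := hf.free_adjoinRoot
  have hinj : Function.Injective (algebraMap R Ω) := by
    rw [IsScalarTower.algebraMap_eq R F Ω]
    exact (algebraMap F Ω).injective.comp (IsFractionRing.injective R F)
  let g : Polynomial Ω := f.map (algebraMap R Ω)
  have hg : g ≠ 0 := (hf.map _).ne_zero
  have hr : ∀ α : g.roots.toFinset, f.eval₂ (algebraMap R Ω) α.1 = 0 := fun α => by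
      have := α.2
      rw [Multiset.mem_toFinset, mem_roots hg, IsRoot.def, eval_map] at this
      exact this
  let ψ : ∀ α : g.roots.toFinset, D →+* Ω := fun α =>
    AdjoinRoot.lift (algebraMap R Ω) α.1 (hr α)
  let q : g.roots.toFinset → PrimeSpectrum D := fun α =>
    ⟨RingHom.ker (ψ α), RingHom.ker_isPrime _⟩
  refine cov_of_fintype (ι := g.roots.toFinset) ?_ (fun α => closure {q α})
    (fun α => isPreirreducible_singleton.closure) fun x => ?_
  · rw [Fintype.card_coe]
    calc g.roots.toFinset.card ≤ g.roots.card := Multiset.toFinset_card_le _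
      _ ≤ g.natDegree := card_roots' _
      _ ≤ f.natDegree := natDegree_map_le
  · have : x.asIdeal.LiesOver (x.asIdeal.under R) := ⟨rfl⟩
    obtain ⟨Q, hQx, hQp, hQ0⟩ := Ideal.exists_ideal_le_liesOver_of_le (p := (⊥ : Ideal R))
      (q := x.asIdeal.under R) x.asIdeal bot_le
    have hQ0' : Q.comap (algebraMap R D) = ⊥ := hQ0.over.symm
    have hinjQ : Function.Injective (algebraMap R (D ⧸ Q)) := by
      rw [injective_iff_map_eq_zero]
      intro a ha
      have : a ∈ Q.comap (algebraMap R D) := by
        rw [Ideal.mem_comap, ← Ideal.Quotient.eq_zero_iff_mem]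
        exact ha
      rw [hQ0'] at this
      exact this
    have : FaithfulSMul R (D ⧸ Q) := (faithfulSMul_iff_algebraMap_injective _ _).mpr hinjQ
    have : FaithfulSMul R Ω := (faithfulSMul_iff_algebraMap_injective _ _).mpr hinj
    have hint : Algebra.IsIntegral R (D ⧸ Q) := inferInstance
    have halg : Algebra.IsAlgebraic R (D ⧸ Q) := inferInstance
    let φ : (D ⧸ Q) →ₐ[R] Ω := IsAlgClosed.lift
    have hφ : Function.Injective φ := by
      rw [injective_iff_map_eq_zero]
      have h1 : RingHom.ker φ.toRingHom = ⊥ := by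
        refine Ideal.eq_bot_of_comap_eq_bot (R := R) ?_
        rw [RingHom.comap_ker]
        have h2 : φ.toRingHom.comp (algebraMap R (D ⧸ Q)) = algebraMap R Ω := φ.comp_algebraMap
        rw [h2]
        exact (RingHom.injective_iff_ker_eq_bot _).mp hinj
      intro a ha
      have : a ∈ RingHom.ker φ.toRingHom := ha
      rw [h1] at this
      exact this
    let χ : D →+* Ω := φ.toRingHom.comp (Ideal.Quotient.mk Q)
    have hχR : χ.comp (AdjoinRoot.of f) = algebraMap R Ω := φ.comp_algebraMap
    have hroot : χ (AdjoinRoot.root f) ∈ g.roots.toFinset := by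
      rw [Multiset.mem_toFinset, mem_roots hg, IsRoot.def, eval_map, ← hχR,
        ← hom_eval₂, AdjoinRoot.eval₂_root, map_zero]
    refine ⟨⟨_, hroot⟩, ?_⟩
    have hχ : ψ ⟨_, hroot⟩ = χ := by
      apply AdjoinRoot.ringHom_ext
      · rw [hχR]; ext r; exact AdjoinRoot.lift_of (hr _)
      · exact AdjoinRoot.lift_root (hr _)
    have hq : (q ⟨_, hroot⟩).asIdeal = Q := by
      change RingHom.ker (ψ ⟨_, hroot⟩) = Q
      rw [hχ]
      ext d
      rw [RingHom.mem_ker]
      constructor
      · intro h
        rw [← Ideal.Quotient.eq_zero_iff_mem]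
        exact hφ (by rw [map_zero]; exact h)
      · intro h
        change φ (Ideal.Quotient.mk Q d) = 0
        rw [Ideal.Quotient.eq_zero_iff_mem.mpr h, map_zero]
    rw [PrimeSpectrum.closure_singleton, PrimeSpectrum.mem_zeroLocus, hq]
    exact hQx

/-- The spectrum of a standard étale algebra over a domain is covered by `deg f` irreducible subsets. -/
theorem cov_of_standardEtale {B : Type*} [CommRing B] [Algebra R B]
    (P : StandardEtalePresentation R B) : Cov (PrimeSpectrum B) P.f.natDegree := by
  let e : B ≃ₐ[R] Localization.Away (AdjoinRoot.mk P.f P.g) := P.equivRing.trans P.P.equivAwayAdjoinRoot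
  have h1 := cov_adjoinRoot P.f P.monic_f
  have h2 := h1.of_isOpenEmbedding (PrimeSpectrum.localization_away_isOpenEmbedding
    (Localization.Away (AdjoinRoot.mk P.f P.g)) (AdjoinRoot.mk P.f P.g))
  exact h2.of_isOpenEmbedding
    (PrimeSpectrum.homeomorphOfRingEquiv e.toRingEquiv).isOpenEmbedding

omit [IsDomain R] in
/-- A standard étale algebra has at most the dimension of the base. -/
theorem topologicalKrullDim_le_of_standardEtale {B : Type*} [CommRing B] [Algebra R B]
    (P : StandardEtalePresentation R B) :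
    topologicalKrullDim (PrimeSpectrum B) ≤ ringKrullDim R := by
  let e : B ≃ₐ[R] Localization.Away (AdjoinRoot.mk P.f P.g) := P.equivRing.trans P.P.equivAwayAdjoinRoot
  have : Module.Finite R (AdjoinRoot P.f) := P.monic_f.finite_adjoinRoot
  have : Algebra.QuasiFinite R B := .of_surjective_algHom e.symm.toAlgHom e.symm.surjective
  rw [PrimeSpectrum.topologicalKrullDim_eq_ringKrullDim]
  exact FlatA.DimFin.ringKrullDim_le_of_quasiFinite R B

open scoped TensorProduct in
/-- Base change to a field of a standard étale algebra over a polynomial ring: covers and dimension. -/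
theorem cov_and_dim_of_baseChange {A B K : Type u} [CommRing A] [CommRing B] [Field K] [Algebra A B]
    [Algebra A K] (n : ℕ) [Algebra (MvPolynomial (Fin n) A) B]
    [IsScalarTower A (MvPolynomial (Fin n) A) B]
    (P : StandardEtalePresentation (MvPolynomial (Fin n) A) B) :
    Cov (PrimeSpectrum (B ⊗[A] K)) P.f.natDegree ∧
      topologicalKrullDim (PrimeSpectrum (B ⊗[A] K)) ≤ n := by
  let Q := MvPolynomial (Fin n) A
  let T := Q ⊗[A] K
  let e₁ : T ≃+* MvPolynomial (Fin n) K :=
    (Algebra.TensorProduct.comm A Q K).toRingEquiv.trans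
      (MvPolynomial.algebraTensorAlgEquiv A K).toRingEquiv
  have hT : IsDomain T := e₁.toMulEquiv.isDomain _
  let P' : StandardEtalePresentation T (T ⊗[Q] B) := P.baseChange
  let e₂ : (T ⊗[Q] B) ≃+* (B ⊗[A] K) :=
    (Algebra.TensorProduct.comm Q T B).toRingEquiv.trans
      (Algebra.TensorProduct.cancelBaseChange A Q Q B K).toRingEquiv
  let h : PrimeSpectrum (B ⊗[A] K) ≃ₜ PrimeSpectrum (T ⊗[Q] B) := PrimeSpectrum.homeomorphOfRingEquiv e₂.symm
  have hdeg : P'.f.natDegree ≤ P.f.natDegree := natDegree_map_le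
  refine ⟨((cov_of_standardEtale P').of_isOpenEmbedding h.isOpenEmbedding).mono hdeg, ?_⟩
  refine (h.isInducing.topologicalKrullDim_le.trans (topologicalKrullDim_le_of_standardEtale P')).trans ?_
  rw [ringKrullDim_eq_of_ringEquiv e₁]
  exact (FlatA.DimFin.ringKrullDim_mvPolynomial_fin K n).le

end Groth.Agent.Sga3.H782.StdEt
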