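import Groth.Agent.Sga3.H782.Word
import Mathlib.Topology.KrullDimension
import Mathlib.Topology.NoetherianSpace
import Mathlib.Topology.Connected.Basic
import Mathlib.Topology.Separation.Basic

/-!
# Derived length of solvable groups with a Zariski-like topology

`Γ` is a group with a Noetherian T1 topology such that translations, inversion and the maps
`b ↦ ⁅a, b⁆` are continuous (multiplication is not assumed jointly continuous).
-/

open Set TopologicalSpace
open scoped commutatorElement

namespace Groth.Agent.Sga3.H782.TopGrp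

variable (Γ : Type*) [Group Γ] [TopologicalSpace Γ]

/-- The continuity properties of the group of rational points of an algebraic group. -/
structure ZarCont : Prop where
  left : ∀ a : Γ, Continuous fun b : Γ => a * b
  right : ∀ a : Γ, Continuous fun b : Γ => b * a
  inv : Continuous fun b : Γ => b⁻¹
  comm : ∀ a : Γ, Continuous fun b : Γ => ⁅a, b⁆

variable {Γ}

namespace ZarCont

variable (h : ZarCont Γ)
include h

theorem comm' (b : Γ) : Continuous fun a : Γ => ⁅a, b⁆ := by
  have : (fun a : Γ => ⁅a, b⁆) = fun a => (⁅b, a⁆)⁻¹ := by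
    funext a; simp only [commutatorElement_def]; group
  rw [this]
  exact h.inv.comp (h.comm b)

/-- The closure of a subgroup, as a subgroup. -/
def cl (D : Subgroup Γ) : Subgroup Γ where
  carrier := closure (D : Set Γ)
  one_mem' := subset_closure D.one_mem
  mul_mem' := by
    intro a b ha hb
    have h1 : ∀ x ∈ D, ∀ y ∈ closure (D : Set Γ), x * y ∈ closure (D : Set Γ) := by
      intro x hx y hy
      exact map_mem_closure (h.left x) hy (fun z hz => D.mul_mem hx hz)
    have h2 : (fun x : Γ => x * b) a ∈ closure (closure (D : Set Γ)) :=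
      map_mem_closure (f := fun x : Γ => x * b) (h.right b) ha (fun z hz => h1 z hz b hb)
    simpa using h2
  inv_mem' := by
    intro a ha
    exact map_mem_closure h.inv ha (fun z hz => D.inv_mem hz)

theorem coe_cl (D : Subgroup Γ) : (h.cl D : Set Γ) = closure (D : Set Γ) := rfl

theorem le_cl (D : Subgroup Γ) : D ≤ h.cl D := fun _ hx => subset_closure hx

theorem cl_mono {D E : Subgroup Γ} (hDE : D ≤ E) : h.cl D ≤ h.cl E := closure_mono hDE

theorem cl_cl (D : Subgroup Γ) : h.cl (h.cl D) = h.cl D :=
  SetLike.coe_injective (by simp [coe_cl])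

theorem isClosed_cl (D : Subgroup Γ) : IsClosed (h.cl D : Set Γ) := isClosed_closure

theorem cl_le_iff {D E : Subgroup Γ} (hE : IsClosed (E : Set Γ)) : h.cl D ≤ E ↔ D ≤ E :=
  ⟨fun hh => (h.le_cl D).trans hh, fun hh => closure_minimal hh hE⟩

/-- The closure of the commutator subgroup only depends on the closure. -/
theorem cl_commutator (D : Subgroup Γ) : h.cl ⁅h.cl D, h.cl D⁆ = h.cl ⁅D, D⁆ := by
  apply le_antisymm
  · rw [h.cl_le_iff (h.isClosed_cl _), Subgroup.commutator_le]
    have h1 : ∀ x ∈ D, ∀ y ∈ h.cl D, ⁅x, y⁆ ∈ h.cl ⁅D, D⁆ := by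
      intro x hx y hy
      exact map_mem_closure (h.comm x) hy
        (fun z hz => Subgroup.commutator_mem_commutator hx hz)
    intro a ha b hb
    have h2 : (fun x : Γ => ⁅x, b⁆) a ∈ closure (h.cl ⁅D, D⁆ : Set Γ) :=
      map_mem_closure (f := fun x : Γ => ⁅x, b⁆) (h.comm' b) ha (fun z hz => h1 z hz b hb)
    rw [coe_cl, closure_closure] at h2
    exact h2
  · exact h.cl_mono (Subgroup.commutator_mono (h.le_cl D) (h.le_cl D))

/-- The commutator subgroup of a (pre)connected subgroup is preconnected. -/
theorem isPreconnected_commutator {D : Subgroup Γ} (hD : IsPreconnected (D : Set Γ)) :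
    IsPreconnected ((⁅D, D⁆ : Subgroup Γ) : Set Γ) := by
  refine isPreconnected_of_forall (1 : Γ) ?_
  intro y hy
  have hy' : y ∈ Subgroup.closure {g | ∃ g₁ ∈ D, ∃ g₂ ∈ D, ⁅g₁, g₂⁆ = g} := by
    rwa [← Subgroup.commutator_def]
  clear hy
  induction hy' using Subgroup.closure_induction with
  | mem x hx =>
    obtain ⟨a, ha, b, hb, rfl⟩ := hx
    refine ⟨(fun b => ⁅a, b⁆) '' (D : Set Γ), ?_, ⟨1, D.one_mem, by simp⟩, ⟨b, hb, rfl⟩,
      hD.image _ (h.comm a).continuousOn⟩
    rintro _ ⟨c, hc, rfl⟩
    exact Subgroup.commutator_mem_commutator ha hc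
  | one => exact ⟨{1}, by simp [one_mem], by simp, by simp, isPreconnected_singleton⟩
  | mul x y _ _ hx hy =>
    obtain ⟨s, hs, h1s, hxs, hsc⟩ := hx
    obtain ⟨t, ht, h1t, hyt, htc⟩ := hy
    have htc' : IsPreconnected ((fun b => x * b) '' t) := htc.image _ (h.left x).continuousOn
    refine ⟨s ∪ (fun b => x * b) '' t, ?_, Or.inl h1s, Or.inr ⟨y, hyt, rfl⟩,
      IsPreconnected.union x hxs ⟨1, h1t, by simp⟩ hsc htc'⟩
    rintro z (hz | ⟨b, hb, rfl⟩)
    · exact hs hz
    · exact mul_mem (hs hxs) (ht hb)
  | inv x _ hx =>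
    obtain ⟨s, hs, h1s, hxs, hsc⟩ := hx
    refine ⟨(fun b => b⁻¹) '' s, ?_, ⟨1, h1s, by simp⟩, ⟨x, hxs, rfl⟩,
      hsc.image _ h.inv.continuousOn⟩
    rintro _ ⟨b, hb, rfl⟩
    exact inv_mem (hs hb)

theorem isPreconnected_cl {D : Subgroup Γ} (hD : IsPreconnected (D : Set Γ)) :
    IsPreconnected (h.cl D : Set Γ) := hD.closure

end ZarCont

/-- A connected space in which every point has an irreducible open neighbourhood is irreducible. -/
theorem preirreducibleSpace_of_local {X : Type*} [TopologicalSpace X] [PreconnectedSpace X]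
    (hloc : ∀ x : X, ∃ V : Set X, IsOpen V ∧ x ∈ V ∧ IsPreirreducible V) :
    PreirreducibleSpace X := by
  rw [preirreducibleSpace_iff_open_dense]
  intro U hU hne
  rw [dense_iff_closure_eq]
  have hclopen : IsClopen (closure U) := by
    refine ⟨isClosed_closure, ?_⟩
    rw [isOpen_iff_mem_nhds]
    intro x hx
    obtain ⟨V, hVo, hxV, hVi⟩ := hloc x
    refine Filter.mem_of_superset (hVo.mem_nhds hxV) ?_
    have hVU : (V ∩ U).Nonempty := mem_closure_iff.mp hx V hVo hxV
    exact (subset_closure_inter_of_isPreirreducible_of_isOpen hVi hU hVU).trans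
      (closure_mono inter_subset_right)
  rcases isClopen_iff.mp hclopen with h | h
  · exact absurd (hne.mono subset_closure) (by simp [h])
  · exact h

namespace ZarCont

variable (h : ZarCont Γ)
include h

/-- A preconnected subgroup of a Noetherian group is irreducible. -/
theorem isIrreducible_of_isPreconnected [NoetherianSpace Γ] {D : Subgroup Γ}
    (hD : IsPreconnected (D : Set Γ)) : IsIrreducible (D : Set Γ) := by
  refine ⟨⟨1, D.one_mem⟩, ?_⟩
  have : PreconnectedSpace D := isPreconnected_iff_preconnectedSpace.mp hD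
  have hnoeth : NoetherianSpace D := Topology.IsInducing.subtypeVal.noetherianSpace
  have : Nonempty D := ⟨1⟩
  -- homeomorphisms of `D` by left translation
  have hcont : ∀ a : D, Continuous (fun b : D => a * b) := fun a =>
    Continuous.subtype_mk ((h.left a.1).comp continuous_subtype_val) _
  let T : D → (D ≃ₜ D) := fun a =>
    { toFun := fun b => a * b
      invFun := fun b => a⁻¹ * b
      left_inv := fun b => by simp
      right_inv := fun b => by simp
      continuous_toFun := hcont a
      continuous_invFun := hcont a⁻¹ }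
  -- some nonempty open set lies in an irreducible component
  have hZ : irreducibleComponent (1 : D) ∈ irreducibleComponents D :=
    irreducibleComponent_mem_irreducibleComponents _
  obtain ⟨U, hUo, hUne, hUZ⟩ :=
    NoetherianSpace.exists_isOpen_nonempty_subset_irreducibleComponent _ hZ
  -- hence every point has an irreducible open neighbourhood
  have hU : IsPreirreducible U := by
    have := (hZ.1.2).open_subset hUo hUZ
    exact this
  obtain ⟨u, hu⟩ := hUne
  have hloc : ∀ x : D, ∃ V : Set D, IsOpen V ∧ x ∈ V ∧ IsPreirreducible V := by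
    intro x
    refine ⟨(T (x * u⁻¹)) '' U, (T _).isOpenMap U hUo, ⟨u, hu, ?_⟩,
      hU.image _ (T _).continuous.continuousOn⟩
    change (x * u⁻¹) * u = x
    group
  have h5 : PreirreducibleSpace (D : Set Γ) := preirreducibleSpace_of_local hloc
  exact isPreirreducible_iff_preirreducibleSpace.mpr h5

end ZarCont

/-- The iterated commutator subgroups of `H`. -/
def E (H : Subgroup Γ) : ℕ → Subgroup Γ
  | 0 => H
  | n + 1 => ⁅E H n, E H n⁆

omit [TopologicalSpace Γ] in
theorem E_le_derivedSeries (H : Subgroup Γ) (n : ℕ) : E H n ≤ derivedSeries Γ n := by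
  induction n with
  | zero => exact le_top
  | succ n ih => rw [derivedSeries_succ]; exact Subgroup.commutator_mono ih ih

omit [TopologicalSpace Γ] in
theorem derivedSeries_add_le (H : Subgroup Γ) {N : ℕ} (hN : derivedSeries Γ N ≤ H) (n : ℕ) :
    derivedSeries Γ (N + n) ≤ E H n := by
  induction n with
  | zero => exact hN
  | succ n ih => rw [← add_assoc, derivedSeries_succ]; exact Subgroup.commutator_mono ih ih

omit [TopologicalSpace Γ] in
theorem E_succ_le (H : Subgroup Γ) (n : ℕ) : E H (n + 1) ≤ E H n :=
  Subgroup.commutator_le_self _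

namespace ZarCont

variable (h : ZarCont Γ)
include h

theorem isPreconnected_E {H : Subgroup Γ} (hH : IsPreconnected (H : Set Γ)) (n : ℕ) :
    IsPreconnected (E H n : Set Γ) := by
  induction n with
  | zero => exact hH
  | succ n ih => exact h.isPreconnected_commutator ih

theorem cl_E_succ (H : Subgroup Γ) (n : ℕ) :
    h.cl (E H (n + 1)) = h.cl ⁅h.cl (E H n), h.cl (E H n)⁆ := (h.cl_commutator _).symm

/-- If the closures of two successive groups agree then the closures are constant from there on. -/
theorem cl_E_const {H : Subgroup Γ} {n : ℕ} (hn : h.cl (E H (n + 1)) = h.cl (E H n)) (k : ℕ) :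
    h.cl (E H (n + k)) = h.cl (E H n) := by
  induction k with
  | zero => rfl
  | succ k ih => rw [← add_assoc, cl_E_succ, ih, ← cl_E_succ, hn]

theorem E_eq_bot_of_le [NoetherianSpace Γ] [T1Space Γ] {H : Subgroup Γ}
    (hH : IsPreconnected (H : Set Γ)) {m d : ℕ} (hm : E H m = ⊥)
    (hd : topologicalKrullDim Γ ≤ d) : E H d = ⊥ := by
  by_contra hne
  have hbot : h.cl (⊥ : Subgroup Γ) = ⊥ :=
    SetLike.coe_injective (by simp [coe_cl])
  have hanti : Antitone fun n => h.cl (E H n) :=
    antitone_nat_of_succ_le fun n => h.cl_mono (E_succ_le H n)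
  have hstrict : ∀ n ≤ d, h.cl (E H (n + 1)) < h.cl (E H n) := by
    intro n hn
    refine lt_of_le_of_ne (hanti (Nat.le_succ n)) fun heq => ?_
    have h1 := h.cl_E_const heq
    have h2 : h.cl (E H n) = ⊥ := by
      rw [← h1 m]
      refine le_bot_iff.mp ?_
      have : h.cl (E H (n + m)) ≤ h.cl (E H m) := hanti (Nat.le_add_left _ _)
      rwa [hm, hbot] at this
    have h3 : E H d ≤ h.cl (E H n) := (h.le_cl _).trans (hanti hn)
    rw [h2] at h3
    exact hne (le_bot_iff.mp h3)
  let Z : ℕ → IrreducibleCloseds Γ := fun n =>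
    { carrier := h.cl (E H n)
      isIrreducible' := h.isIrreducible_of_isPreconnected (h.isPreconnected_cl (h.isPreconnected_E hH n))
      isClosed' := h.isClosed_cl _ }
  have hZ : ∀ n ≤ d, Z (n + 1) < Z n := fun n hn => hstrict n hn
  let c : LTSeries (IrreducibleCloseds Γ) :=
    { length := d + 1
      toFun := fun i => Z (d + 1 - i)
      step := by
        intro i
        have : d + 1 - (i.castSucc : ℕ) = (d + 1 - (i.succ : ℕ)) + 1 := by
          have := i.isLt
          simp
          omega
        rw [this]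
        exact hZ _ (by simp) }
  have h1 : ((d + 1 : ℕ) : WithBot ℕ∞) ≤ d := (Order.LTSeries.length_le_krullDim c).trans hd
  have h2 : d + 1 ≤ d := by exact_mod_cast h1
  omega

/-- The connected component of the unit, as a subgroup. -/
def conn : Subgroup Γ where
  carrier := connectedComponent (1 : Γ)
  one_mem' := mem_connectedComponent
  mul_mem' := by
    intro a b ha hb
    have h1 : IsPreconnected ((fun x => a * x) '' connectedComponent (1 : Γ)) :=
      isPreconnected_connectedComponent.image _ (h.left a).continuousOn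
    have h2 := h1.subset_connectedComponent (x := a) ⟨1, mem_connectedComponent, by simp⟩
    rw [← connectedComponent_eq ha] at h2
    exact h2 ⟨b, hb, rfl⟩
  inv_mem' := by
    intro a ha
    have h1 : IsPreconnected ((fun x => x⁻¹) '' connectedComponent (1 : Γ)) :=
      isPreconnected_connectedComponent.image _ h.inv.continuousOn
    exact h1.subset_connectedComponent (x := 1) ⟨1, mem_connectedComponent, by simp⟩ ⟨a, ha, rfl⟩

theorem coe_conn : (h.conn : Set Γ) = connectedComponent (1 : Γ) := rfl

theorem isPreconnected_conn : IsPreconnected (h.conn : Set Γ) := isPreconnected_connectedComponent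

theorem conn_normal : h.conn.Normal := by
  refine ⟨fun n hn g => ?_⟩
  have h0 : Continuous fun x : Γ => g * x * g⁻¹ := (h.right g⁻¹).comp (h.left g)
  have h1 : IsPreconnected ((fun x => g * x * g⁻¹) '' connectedComponent (1 : Γ)) :=
    isPreconnected_connectedComponent.image _ h0.continuousOn
  exact h1.subset_connectedComponent (x := 1) ⟨1, mem_connectedComponent, by simp⟩ ⟨n, hn, rfl⟩

/-- Two points in a common preconnected set have the same class modulo the neutral component. -/
theorem mk_eq_of_isPreconnected {Z : Set Γ} (hZ : IsPreconnected Z) {a b : Γ} (ha : a ∈ Z)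
    (hb : b ∈ Z) : (QuotientGroup.mk a : Γ ⧸ h.conn) = QuotientGroup.mk b := by
  rw [QuotientGroup.eq]
  have h1 : IsPreconnected ((fun x => a⁻¹ * x) '' Z) := hZ.image _ (h.left a⁻¹).continuousOn
  exact h1.subset_connectedComponent (x := 1) ⟨a, ha, by simp⟩ ⟨b, hb, rfl⟩

theorem finite_quotient_and_card_le {N : ℕ} (Z : Fin N → Set Γ) (hZ : ∀ i, IsPreconnected (Z i))
    (hcov : ∀ x, ∃ i, x ∈ Z i) : Finite (Γ ⧸ h.conn) ∧ Nat.card (Γ ⧸ h.conn) ≤ N := by
  classical
  let φ : Fin N → Γ ⧸ h.conn := fun i =>
    if hi : (Z i).Nonempty then QuotientGroup.mk hi.some else QuotientGroup.mk 1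
  have hφ : Function.Surjective φ := by
    intro q
    obtain ⟨x, rfl⟩ := QuotientGroup.mk_surjective q
    obtain ⟨i, hi⟩ := hcov x
    refine ⟨i, ?_⟩
    have hne : (Z i).Nonempty := ⟨x, hi⟩
    simp only [φ, dif_pos hne]
    exact h.mk_eq_of_isPreconnected (hZ i) hne.some_mem hi
  have := Finite.of_surjective φ hφ
  refine ⟨this, ?_⟩
  simpa using Nat.card_le_card_of_surjective φ hφ

/-- **Bound for the derived length.** If a solvable Noetherian T1 group with Zariski-like topology is
covered by `N` preconnected subsets and has Krull dimension at most `d`, then its derived length is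
at most `N + d`. -/
theorem derivedSeries_eq_bot_of_cover [NoetherianSpace Γ] [T1Space Γ] {N d m : ℕ}
    (Z : Fin N → Set Γ) (hZ : ∀ i, IsPreconnected (Z i))
    (hcov : ∀ x, ∃ i, x ∈ Z i) (hd : topologicalKrullDim Γ ≤ d)
    (hm : derivedSeries Γ m = ⊥) : derivedSeries Γ (N + d) = ⊥ := by
  obtain ⟨hfin, hcard⟩ := h.finite_quotient_and_card_le Z hZ hcov
  have := h.conn_normal
  have h1 : derivedSeries Γ N ≤ h.conn := Word.derivedSeries_le_of_index_le h.conn hm hcard
  have h2 : E h.conn m = ⊥ := le_bot_iff.mp (hm ▸ E_le_derivedSeries h.conn m)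
  have h3 := h.E_eq_bot_of_le h.isPreconnected_conn h2 hd
  exact le_bot_iff.mp (h3 ▸ derivedSeries_add_le h.conn h1 d)

end ZarCont

end Groth.Agent.Sga3.H782.TopGrp
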