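import Mathlib.GroupTheory.Solvable
import Mathlib.GroupTheory.Index
import Mathlib.GroupTheory.QuotientGroup.Basic
import Mathlib.Tactic.Group
import Mathlib.Tactic.Abel

/-!
# Values of the iterated commutator word, and derived lengths of finite solvable groups
-/

namespace Groth.Agent.Sga3.H782.Word

open scoped commutatorElement

variable (Γ : Type*) [Group Γ]

/-- The set of values of the n-th derived word. -/
def vals : ℕ → Set Γ
  | 0 => Set.univ
  | n + 1 => {x | ∃ a ∈ vals n, ∃ b ∈ vals n, x = ⁅a, b⁆}

variable {Γ}

theorem conj_mem_vals (n : ℕ) {x : Γ} (hx : x ∈ vals Γ n) (g : Γ) : g * x * g⁻¹ ∈ vals Γ n := by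
  induction n generalizing x with
  | zero => trivial
  | succ n ih =>
    obtain ⟨a, ha, b, hb, rfl⟩ := hx
    refine ⟨_, ih ha, _, ih hb, ?_⟩
    simp only [commutatorElement_def]
    group

theorem closure_vals (n : ℕ) : Subgroup.closure (vals Γ n) = derivedSeries Γ n := by
  induction n with
  | zero => simp [vals]
  | succ n ih =>
    rw [derivedSeries_succ, ← ih]
    apply le_antisymm
    · rw [Subgroup.closure_le]
      rintro _ ⟨a, ha, b, hb, rfl⟩
      exact Subgroup.commutator_mem_commutator (Subgroup.subset_closure ha)
        (Subgroup.subset_closure hb)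
    · set K := Subgroup.closure (vals Γ (n + 1)) with hK
      have hKn : K.Normal := by
        rw [hK]
        refine ⟨fun x hx g => ?_⟩
        induction hx using Subgroup.closure_induction with
        | mem x hx => exact Subgroup.subset_closure (conj_mem_vals _ hx g)
        | one => simp [one_mem]
        | mul x y _ _ hx hy =>
          have : g * (x * y) * g⁻¹ = (g * x * g⁻¹) * (g * y * g⁻¹) := by group
          rw [this]; exact mul_mem hx hy
        | inv x _ hx =>
          have : g * x⁻¹ * g⁻¹ = (g * x * g⁻¹)⁻¹ := by group
          rw [this]; exact inv_mem hx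
      rw [Subgroup.commutator_le]
      intro a ha b hb
      -- fix b, induct on a
      have key : ∀ x ∈ vals Γ n, ∀ y ∈ Subgroup.closure (vals Γ n), ⁅x, y⁆ ∈ K := by
        intro x hx y hy
        induction hy using Subgroup.closure_induction with
        | mem y hy => exact Subgroup.subset_closure ⟨x, hx, y, hy, rfl⟩
        | one => simp [one_mem]
        | mul y z _ _ hy hz =>
          have : ⁅x, y * z⁆ = ⁅x, y⁆ * (y * ⁅x, z⁆ * y⁻¹) := by
            simp only [commutatorElement_def]; group
          rw [this]; exact mul_mem hy (hKn.conj_mem _ hz _)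
        | inv y _ hy =>
          have : ⁅x, y⁻¹⁆ = y⁻¹ * (⁅x, y⁆)⁻¹ * y⁻¹⁻¹ := by
            simp only [commutatorElement_def]; group
          rw [this]; exact hKn.conj_mem _ (inv_mem hy) _
      induction ha using Subgroup.closure_induction with
      | mem x hx => exact key x hx b hb
      | one => simp [one_mem]
      | mul x y _ _ hx hy =>
        have : ⁅x * y, b⁆ = (x * ⁅y, b⁆ * x⁻¹) * ⁅x, b⁆ := by
          simp only [commutatorElement_def]; group
        rw [this]; exact mul_mem (hKn.conj_mem _ hy _) hx
      | inv x _ hx =>
        have : ⁅x⁻¹, b⁆ = x⁻¹ * (⁅x, b⁆)⁻¹ * x⁻¹⁻¹ := by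
          simp only [commutatorElement_def]; group
        rw [this]; exact hKn.conj_mem _ (inv_mem hx) _

theorem derivedSeries_eq_bot_iff_vals (n : ℕ) :
    derivedSeries Γ n = ⊥ ↔ ∀ x ∈ vals Γ n, x = 1 := by
  rw [← closure_vals, Subgroup.closure_eq_bot_iff]
  rfl

/-- If the derived series is stationary at some stage, it is trivial there (for a group whose derived
series reaches the trivial group). -/
theorem derivedSeries_eq_bot_of_succ_eq {n m : ℕ} (hm : derivedSeries Γ m = ⊥)
    (h : derivedSeries Γ (n + 1) = derivedSeries Γ n) : derivedSeries Γ n = ⊥ := by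
  have : ∀ k, derivedSeries Γ (n + k) = derivedSeries Γ n := by
    intro k
    induction k with
    | zero => rfl
    | succ k ih => rw [← add_assoc, derivedSeries_succ, ih, ← derivedSeries_succ, h]
  rcases le_total n m with hnm | hnm
  · obtain ⟨k, rfl⟩ := Nat.exists_eq_add_of_le hnm
    rw [← this k, hm]
  · exact le_bot_iff.mp (hm ▸ derivedSeries_antitone Γ hnm)

/-- A finite group whose derived series reaches the trivial group does so after at most its order
many steps. -/
theorem derivedSeries_card_eq_bot {Q : Type*} [Group Q] [Finite Q] {m : ℕ}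
    (hm : derivedSeries Q m = ⊥) {N : ℕ} (hN : Nat.card Q ≤ N) : derivedSeries Q N = ⊥ := by
  by_contra hne
  have hne' : ∀ n ≤ N, derivedSeries Q n ≠ ⊥ := fun n hn h =>
    hne (le_bot_iff.mp (h ▸ derivedSeries_antitone Q hn))
  have key : ∀ n ≤ N, Nat.card (derivedSeries Q n) + n ≤ Nat.card Q := by
    intro n
    induction n with
    | zero => intro _; simpa using Subgroup.card_le_card_group _
    | succ n ih =>
      intro hn
      have h1 := ih (by omega)
      have h2 : derivedSeries Q (n + 1) < derivedSeries Q n := by
        refine lt_of_le_of_ne (derivedSeries_antitone Q (by omega)) fun h => ?_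
        exact hne' n (by omega) (derivedSeries_eq_bot_of_succ_eq hm h)
      have h3 : Nat.card (derivedSeries Q (n + 1)) < Nat.card (derivedSeries Q n) := by
        have := Set.ncard_lt_ncard (SetLike.coe_ssubset_coe.mpr h2) (Set.toFinite _)
        simpa [← Nat.card_coe_set_eq] using this
      omega
  have h1 := key N le_rfl
  have h2 : 0 < Nat.card (derivedSeries Q N) := Nat.card_pos
  omega

/-- If `H` is a normal subgroup of index at most `N` then the `N`-th derived subgroup lies in `H`
when the derived series of the group reaches the trivial group. -/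
theorem derivedSeries_le_of_index_le (H : Subgroup Γ) [H.Normal] [Finite (Γ ⧸ H)] {m N : ℕ}
    (hm : derivedSeries Γ m = ⊥) (hN : Nat.card (Γ ⧸ H) ≤ N) : derivedSeries Γ N ≤ H := by
  have h1 : derivedSeries (Γ ⧸ H) m = ⊥ := by
    rw [← map_derivedSeries_eq (QuotientGroup.mk'_surjective H) m, hm, Subgroup.map_bot]
  have h2 := derivedSeries_card_eq_bot h1 hN
  rw [← map_derivedSeries_eq (QuotientGroup.mk'_surjective H) N, Subgroup.map_eq_bot_iff,
    QuotientGroup.ker_mk'] at h2
  exact h2

end Groth.Agent.Sga3.H782.Word
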